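import Groth.Agent.NodeUFDLib.Model

/-! `R[[u,v]]/(uv - Δ)` is the double cover. -/

set_option autoImplicit false
universe u

open PowerSeries IsLocalRing

namespace NodeUFDLib

variable (R : Type u) [CommRing R]

/-- substitution `u ↦ u`, `v ↦ v + t u` -/
noncomputable def shearFun (t : R) : Fin 2 → MvPowerSeries (Fin 2) R :=
  ![MvPowerSeries.X 0, MvPowerSeries.X 1 + MvPowerSeries.C t * MvPowerSeries.X 0]

theorem shearFun_hasSubst (t : R) : MvPowerSeries.HasSubst (shearFun R t) :=
  MvPowerSeries.hasSubst_of_constantCoeff_zero fun s => by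
    fin_cases s <;> simp [shearFun]

theorem shear_comp (t c : R) (s : Fin 2) :
    MvPowerSeries.subst (shearFun R t) (shearFun R c s) = shearFun R (t + c) s := by
  rw [← MvPowerSeries.substAlgHom_apply (shearFun_hasSubst R t)]
  fin_cases s
  · show MvPowerSeries.substAlgHom (shearFun_hasSubst R t) (MvPowerSeries.X 0) = _
    rw [MvPowerSeries.substAlgHom_X]; rfl
  · show MvPowerSeries.substAlgHom (shearFun_hasSubst R t) (MvPowerSeries.X 1 + MvPowerSeries.C c * MvPowerSeries.X 0) = _
    rw [map_add, map_mul, MvPowerSeries.substAlgHom_X, MvPowerSeries.substAlgHom_X,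
      MvPowerSeries.substAlgHom_apply, MvPowerSeries.subst_C]
    show MvPowerSeries.X 1 + MvPowerSeries.C t * MvPowerSeries.X 0 + MvPowerSeries.C c * MvPowerSeries.X 0 =
      MvPowerSeries.X 1 + MvPowerSeries.C (t + c) * MvPowerSeries.X 0
    rw [map_add]; ring

theorem shearFun_zero : shearFun R 0 = MvPowerSeries.X := by
  funext s; fin_cases s <;> simp [shearFun]

/-- the shear automorphism -/
noncomputable def shear : MvPowerSeries (Fin 2) R ≃+* MvPowerSeries (Fin 2) R where
  toFun := MvPowerSeries.substAlgHom (R := R) (shearFun_hasSubst R (-1))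
  invFun := MvPowerSeries.substAlgHom (R := R) (shearFun_hasSubst R 1)
  left_inv f := by
    simp only [MvPowerSeries.substAlgHom_apply]
    rw [MvPowerSeries.subst_comp_subst_apply (shearFun_hasSubst R (-1)) (shearFun_hasSubst R 1)]
    have h : (fun s => MvPowerSeries.subst (shearFun R 1) (shearFun R (-1) s)) = MvPowerSeries.X := by
      simp only [shear_comp, add_neg_cancel, shearFun_zero]
    rw [h, MvPowerSeries.subst_self, id_eq]
  right_inv f := by
    simp only [MvPowerSeries.substAlgHom_apply]
    rw [MvPowerSeries.subst_comp_subst_apply (shearFun_hasSubst R 1) (shearFun_hasSubst R (-1))]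
    have h : (fun s => MvPowerSeries.subst (shearFun R (-1)) (shearFun R 1 s)) = MvPowerSeries.X := by
      simp only [shear_comp, neg_add_cancel, shearFun_zero]
    rw [h, MvPowerSeries.subst_self, id_eq]
  map_mul' := map_mul _
  map_add' := map_add _

/-- two-variable series as iterated series -/
noncomputable def iter : MvPowerSeries (Fin 2) R ≃+* PowerSeries (PowerSeries R) :=
  (MvPowerSeries.finSuccEquiv R 1).toRingEquiv.trans
    (RingEquiv.ofRingHom (PowerSeries.map (MvPowerSeries.renameEquiv R (Equiv.ofUnique (Fin 1) Unit)).toRingEquiv.toRingHom)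
      (PowerSeries.map (MvPowerSeries.renameEquiv R (Equiv.ofUnique (Fin 1) Unit)).symm.toRingEquiv.toRingHom)
      (RingHom.ext fun f => PowerSeries.ext fun n => by simp)
      (RingHom.ext fun f => PowerSeries.ext fun n => by simp))

theorem iter_X_zero : iter R (MvPowerSeries.X 0) = PowerSeries.X := by
  simp [iter]

theorem iter_X_one : iter R (MvPowerSeries.X 1) = PowerSeries.C PowerSeries.X := by
  show PowerSeries.map (MvPowerSeries.renameEquiv R (Equiv.ofUnique (Fin 1) Unit)).toRingEquiv.toRingHom (MvPowerSeries.finSuccEquiv R 1 (MvPowerSeries.X (Fin.succ 0))) = _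
  rw [MvPowerSeries.finSuccEquiv_X_succ, PowerSeries.map_C]
  congr 1
  simp
  rfl

theorem iter_C (r : R) : iter R (MvPowerSeries.C r) = PowerSeries.C (PowerSeries.C r) := by
  simp [iter]
  rfl

variable {R} (Δ : R)

theorem node_ideal_map :
    Ideal.span {((quad Δ : Polynomial (PowerSeries R)) : PowerSeries (PowerSeries R))} =
      (Ideal.span {(MvPowerSeries.X 0 * MvPowerSeries.X 1 - MvPowerSeries.C Δ : MvPowerSeries (Fin 2) R)}).map
        (((shear R).trans (iter R)) : MvPowerSeries (Fin 2) R →+* PowerSeries (PowerSeries R)) := by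
  rw [Ideal.map_span, Set.image_singleton, ← Ideal.span_singleton_neg]
  congr 2
  have h0 : shear R (MvPowerSeries.X 0) = MvPowerSeries.X 0 := by
    show MvPowerSeries.substAlgHom (shearFun_hasSubst R (-1)) _ = _
    rw [MvPowerSeries.substAlgHom_X]; rfl
  have h1 : shear R (MvPowerSeries.X 1) = MvPowerSeries.X 1 + MvPowerSeries.C (-1) * MvPowerSeries.X 0 := by
    show MvPowerSeries.substAlgHom (shearFun_hasSubst R (-1)) _ = _
    rw [MvPowerSeries.substAlgHom_X]; rfl
  have h2 : shear R (MvPowerSeries.C Δ) = MvPowerSeries.C Δ := by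
    show MvPowerSeries.substAlgHom (shearFun_hasSubst R (-1)) _ = _
    rw [MvPowerSeries.substAlgHom_apply, MvPowerSeries.subst_C]
  rw [RingEquiv.coe_toRingHom, RingEquiv.trans_apply, map_sub, map_mul, map_sub, map_mul, h0, h1, h2, map_add, map_mul,
    iter_X_zero, iter_X_one, iter_C, iter_C, quad]
  simp only [Polynomial.coe_add, Polynomial.coe_sub, Polynomial.coe_mul, Polynomial.coe_pow, Polynomial.coe_X,
    Polynomial.coe_C, map_neg, map_one]
  ring

attribute [-instance] PowerSeries.algebraPowerSeries MvPowerSeries.algebraMvPowerSeries in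
theorem exists_equiv [IsNoetherianRing R] [IsLocalRing R] [IsAdicComplete (maximalIdeal (PowerSeries R)) (PowerSeries R)]
    (hΔ : Δ ∈ maximalIdeal R) :
    Nonempty ((MvPowerSeries (Fin 2) R ⧸
      Ideal.span {(MvPowerSeries.X 0 * MvPowerSeries.X 1 - MvPowerSeries.C Δ : MvPowerSeries (Fin 2) R)}) ≃+* N Δ) := by
  have hd : (quad Δ).IsDistinguishedAt (maximalIdeal (PowerSeries R)) := by
    refine ⟨⟨fun {n} hn => ?_⟩, quad_monic Δ⟩
    rw [quad_natDegree] at hn
    have hX : (PowerSeries.X : PowerSeries R) ∈ maximalIdeal (PowerSeries R) := by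
      rw [IsLocalRing.mem_maximalIdeal, mem_nonunits_iff, PowerSeries.isUnit_iff_constantCoeff]
      simp
    have hC : PowerSeries.C Δ ∈ maximalIdeal (PowerSeries R) := by
      rw [IsLocalRing.mem_maximalIdeal, mem_nonunits_iff, PowerSeries.isUnit_iff_constantCoeff,
        PowerSeries.constantCoeff_C]
      exact hΔ
    interval_cases n <;> simp [quad, Polynomial.coeff_X_pow, hX, hC]
  exact ⟨(Ideal.quotientEquiv _ _ ((shear R).trans (iter R)) (node_ideal_map Δ)).trans
    (hd.algEquivQuotient).toRingEquiv.symm⟩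

end NodeUFDLib

namespace NodeUFDLib

theorem isAdicComplete_of_equiv {A B : Type u} [CommRing A] [CommRing B] (e : A ≃+* B) (I : Ideal A)
    [IsAdicComplete I A] : IsAdicComplete (I.map (e : A →+* B)) B := by
  have hpow : ∀ (n : ℕ) (x : B), x ∈ (I.map (e : A →+* B)) ^ n ↔ e.symm x ∈ I ^ n := fun n x => by
    rw [← Ideal.map_pow]
    constructor
    · intro h
      obtain ⟨y, hy, rfl⟩ := (Ideal.mem_map_iff_of_surjective (e : A →+* B) e.surjective).1 h
      simpa using hy
    · intro h
      exact (Ideal.mem_map_iff_of_surjective (e : A →+* B) e.surjective).2 ⟨_, h, e.apply_symm_apply x⟩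
  refine { haus' := fun x hx => ?_, prec' := fun f hf => ?_ }
  · have h0 : e.symm x = 0 := IsHausdorff.haus' (I := I) _ fun n => by
      have h := hx n
      rw [SModEq.zero, smul_eq_mul, Ideal.mul_top] at h ⊢
      exact (hpow n x).1 h
    simpa using congrArg e h0
  · obtain ⟨L, hL⟩ := IsPrecomplete.prec' (I := I) (fun n => e.symm (f n)) fun {m n} hmn => by
      have h := hf hmn
      rw [SModEq.sub_mem, smul_eq_mul, Ideal.mul_top] at h ⊢
      rw [← map_sub]; exact (hpow m _).1 h
    refine ⟨e L, fun n => ?_⟩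
    have h := hL n
    rw [SModEq.sub_mem, smul_eq_mul, Ideal.mul_top] at h ⊢
    rw [hpow, map_sub, RingEquiv.symm_apply_apply]
    exact h

end NodeUFDLib
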