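import Groth.Agent.NodeUFDLib.Model
import Groth.Agent.CommAlgDim.RegularRing
import Groth.Agent.RegUFDLib.Basic

/-! Unique factorization in `R[[u,v]]/(uv - Δ)` for `R` complete regular local and `Δ` prime. -/

set_option autoImplicit false
set_option maxHeartbeats 1000000
universe u

open PowerSeries IsLocalRing

namespace NodeUFDLib

/-- A prime which is generated by one element up to a divisor closed set of products of primes outside it is
principal. -/
theorem principal_of_saturation {A : Type u} [CommRing A] [IsDomain A] [IsNoetherianRing A] (P : Ideal A)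
    [P.IsPrime] (hP : P ≠ ⊥) (T : Set A) (hT0 : ∀ s ∈ T, s ≠ 0) (hdiv : ∀ a b, b ∈ T → a ∣ b → a ∈ T)
    (hprime : ∀ s ∈ T, ¬ IsUnit s → ∃ q, Prime q ∧ q ∉ P ∧ q ∣ s)
    (g₀ : A) (hg₀ : g₀ ∈ P) (h₀ : ∀ a ∈ P, ∃ s ∈ T, s * a ∈ Ideal.span {g₀}) :
    ∃ g, P = Ideal.span {g} := by
  obtain ⟨J, ⟨g, hg, rfl, hgen⟩, hmax⟩ := set_has_maximal_iff_noetherian.2 (inferInstance : IsNoetherian A A)
    {J : Ideal A | ∃ g ∈ P, J = Ideal.span {g} ∧ ∀ a ∈ P, ∃ s ∈ T, s * a ∈ Ideal.span {g}}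
    ⟨_, g₀, hg₀, rfl, h₀⟩
  have hg0 : g ≠ 0 := by
    rintro rfl
    obtain ⟨a, ha, ha0⟩ := Submodule.exists_mem_ne_zero_of_ne_bot hP
    obtain ⟨s, hs, hsa⟩ := hgen a ha
    rw [Ideal.span_singleton_eq_bot.2 rfl, Ideal.mem_bot, mul_eq_zero] at hsa
    exact hsa.elim (hT0 s hs) ha0
  refine ⟨g, le_antisymm (fun a ha => ?_) ((Ideal.span_singleton_le_iff_mem _).2 hg)⟩
  obtain ⟨s, hs, hsa⟩ := hgen a ha
  revert a
  refine (wellFounded_dvdNotUnit (α := A)).induction
    (C := fun s => ∀ a : A, a ∈ P → s ∈ T → s * a ∈ Ideal.span {g} → a ∈ Ideal.span {g}) s ?_ |> fun h a ha hsa => h a ha hs hsa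
  intro s ih a ha hs hsa
  by_cases hu : IsUnit s
  · exact ((Ideal.span {g}).unit_mul_mem_iff_mem hu).1 hsa
  obtain ⟨q, hq, hqP, s', rfl⟩ := hprime s hs hu
  obtain ⟨c, hc⟩ := Ideal.mem_span_singleton'.1 hsa
  have hs' : s' ∈ T := hdiv _ _ hs (dvd_mul_left s' q)
  have hqg : ¬ q ∣ g := by
    rintro ⟨g', rfl⟩
    have hg' : g' ∈ P := (‹P.IsPrime›.mem_or_mem hg).resolve_left hqP
    have hlt : Ideal.span {q * g'} < Ideal.span {g'} := by
      refine lt_of_le_of_ne (Ideal.span_singleton_le_span_singleton.2 (dvd_mul_left g' q)) fun h => ?_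
      obtain ⟨e, he⟩ := Ideal.mem_span_singleton'.1 (h.ge (Ideal.mem_span_singleton_self g'))
      have : (e * q) * g' = 1 * g' := by rw [one_mul, mul_assoc]; exact he
      exact hq.not_unit (IsUnit.of_mul_eq_one e (by
        rw [mul_comm]; exact mul_right_cancel₀ (right_ne_zero_of_mul hg0) this))
    refine hmax _ ⟨g', hg', rfl, fun b hb => ?_⟩ hlt
    obtain ⟨t, ht, htb⟩ := hgen b hb
    exact ⟨t, ht, hlt.le htb⟩
  have h1 : q ∣ c * g := ⟨s' * a, by rw [hc]; ring⟩
  obtain ⟨c', rfl⟩ := (hq.dvd_or_dvd h1).resolve_right hqg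
  refine ih s' ⟨hT0 s' hs', q, hq.not_unit, mul_comm _ _⟩ a ha hs' (Ideal.mem_span_singleton'.2 ⟨c', ?_⟩)
  exact mul_left_cancel₀ hq.ne_zero (by rw [← mul_assoc, hc, mul_assoc])

/-- below a prime minimal over a principal ideal there is only zero -/
theorem eq_bot_of_lt_minimal {A : Type u} [CommRing A] [IsDomain A] [IsNoetherianRing A] {x : A} {P Q : Ideal A}
    [Q.IsPrime] (hP : P ∈ (Ideal.span {x}).minimalPrimes) (hlt : Q < P) : Q = ⊥ := by
  haveI := hP.1.1
  have h1 := Ideal.height_le_one_of_isPrincipal_of_mem_minimalPrimes (Ideal.span {x}) P hP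
  haveI : P.FiniteHeight := P.finiteHeight_iff.mpr (Or.inr (ne_top_of_le_ne_top ENat.one_ne_top h1))
  have h2 := (Ideal.height_strict_mono_of_isPrime_of_isPrime hlt).trans_le h1
  have h3 := Ideal.height_eq_zero_iff.1 (Order.lt_one_iff.1 h2)
  rw [IsDomain.minimalPrimes_eq_singleton_bot] at h3
  exact h3

variable {R : Type u} [CommRing R]

theorem mem_map_C_of_map_eq_zero [IsNoetherianRing R] [IsLocalRing R] {a : PowerSeries R}
    (h : PowerSeries.map (residue R) a = 0) : a ∈ (maximalIdeal R).map (PowerSeries.C (R := R)) := by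
  obtain ⟨n, t, ht⟩ := Submodule.fg_iff_exists_fin_generating_family.1 (IsNoetherian.noetherian (maximalIdeal R))
  have hc : ∀ i, ∃ c : Fin n → R, ∑ j, c j • t j = PowerSeries.coeff i a := fun i => by
    refine (Submodule.mem_span_range_iff_exists_fun R).1 ?_
    rw [ht]
    show PowerSeries.coeff i a ∈ maximalIdeal R
    rw [← residue_eq_zero_iff, ← PowerSeries.coeff_map, h, map_zero]
  choose c hc using hc
  have : a = ∑ j, PowerSeries.C (t j) * PowerSeries.mk (fun i => c i j) := by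
    ext i
    rw [map_sum, ← hc i]
    exact Finset.sum_congr rfl fun j _ => by rw [PowerSeries.coeff_C_mul, PowerSeries.coeff_mk, smul_eq_mul, mul_comm]
  rw [this]
  refine Ideal.sum_mem _ fun j _ => Ideal.mul_mem_right _ _ (Ideal.mem_map_of_mem _ ?_)
  exact ht.le (Submodule.subset_span ⟨j, rfl⟩)

/-- the chain of primes `p R[[T]]` shows that `height (m R[[T]]) ≥ dim R` -/
theorem height_le_height_ker [IsNoetherianRing R] [IsLocalRing R] :
    (maximalIdeal R).height ≤ (RingHom.ker (PowerSeries.map (residue R))).height := by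
  let K : PrimeSpectrum R → Ideal (PowerSeries R) := fun p =>
    RingHom.ker (PowerSeries.map (Ideal.Quotient.mk p.asIdeal))
  have hK : ∀ p, (K p).IsPrime := fun p => RingHom.ker_isPrime _
  have hmem : ∀ p f, f ∈ K p ↔ ∀ i, PowerSeries.coeff i f ∈ p.asIdeal := fun p f => by
    simp only [K, RingHom.mem_ker, PowerSeries.ext_iff, PowerSeries.coeff_map, map_zero,
      Ideal.Quotient.eq_zero_iff_mem]
  obtain ⟨l, hl, hlen⟩ := (maximalIdeal R).exists_ltSeries_length_eq_height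
  let F : PrimeSpectrum R → PrimeSpectrum (PowerSeries R) := fun p => ⟨K p, hK p⟩
  have hF : StrictMono F := by
    intro p q hpq
    refine lt_of_le_of_ne (fun f hf => (hmem q f).2 fun i => hpq.le ((hmem p f).1 hf i)) fun h => ?_
    obtain ⟨x, hxq, hxp⟩ := SetLike.exists_of_lt (show p.asIdeal < q.asIdeal from hpq)
    have h1 : PowerSeries.C x ∈ K q := (hmem q _).2 fun i => by
      rw [PowerSeries.coeff_C]; split_ifs
      · exact hxq
      · exact zero_mem _
    have h2 : PowerSeries.C x ∈ K p := by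
      rw [show K p = K q from congrArg PrimeSpectrum.asIdeal h]; exact h1
    have := (hmem p _).1 h2 0
    rw [PowerSeries.coeff_C, if_pos rfl] at this
    exact hxp this
  haveI : (RingHom.ker (PowerSeries.map (residue R))).IsPrime := RingHom.ker_isPrime _
  have hlast : (F l.last) = ⟨RingHom.ker (PowerSeries.map (residue R)), inferInstance⟩ := by
    refine PrimeSpectrum.ext (Ideal.ext fun f => ?_)
    show f ∈ K l.last ↔ _
    rw [hmem, hl, RingHom.mem_ker, PowerSeries.ext_iff]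
    simp only [PowerSeries.coeff_map, map_zero, residue_eq_zero_iff]
  rw [← hlen]
  refine le_of_le_of_eq ?_ (PrimeSpectrum.height_eq_orderHeight (R := PowerSeries R)
    ⟨RingHom.ker (PowerSeries.map (residue R)), inferInstance⟩).symm
  exact Order.length_le_height (p := l.map F hF) hlast.le

variable (Δ : R) [IsRegularLocalRing R] (hΔ : Δ ∈ maximalIdeal R)

/-- elements nonzero on both branches -/
def general : Set (N Δ) := {f | br0 Δ hΔ f ≠ 0 ∧ br1 Δ hΔ f ≠ 0}

theorem exists_distinguished_mem [IsAdicComplete (maximalIdeal R) R] (P : Ideal (N Δ)) {f : N Δ} (hf : f ∈ P)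
    (hgen : f ∈ general Δ hΔ) :
    ∃ h : Polynomial R, h.IsDistinguishedAt (maximalIdeal R) ∧ ofD Δ (h : PowerSeries R) ∈ P := by
  obtain ⟨a, b, rfl⟩ := exists_rep Δ f
  have hn : PowerSeries.map (residue R) (a ^ 2 + a * b * PowerSeries.X + b ^ 2 * PowerSeries.C Δ) ≠ 0 := by
    rw [map_norm Δ hΔ]
    exact mul_ne_zero hgen.1 hgen.2
  obtain ⟨h, e, H⟩ := exists_isWeierstrassFactorization hn
  refine ⟨h, H.isDistinguishedAt, ?_⟩
  refine ((Ideal.mul_unit_mem_iff_mem P (H.isUnit.map (ofD Δ))).1 ?_)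
  rw [← map_mul, ← H.eq_mul, ← rep_mul_conj]
  exact P.mul_mem_right _ hf

variable [IsDomain (N Δ)]

omit [IsDomain (N Δ)] in
theorem dvd_of_C_dvd_distinguished_mul [IsAdicComplete (maximalIdeal R) R] {h : Polynomial R}
    (hh : h.IsDistinguishedAt (maximalIdeal R)) {r : R} (hr : r ≠ 0) {y : PowerSeries R}
    (hy : PowerSeries.C r ∣ (h : PowerSeries R) * y) : PowerSeries.C r ∣ y := by
  haveI : IsDomain R := CommAlgDim.isDomain_of_isRegularLocalRing R
  obtain ⟨z, hz⟩ := hy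
  have hd := hh.isWeierstrassDivisorAt'
  have hne : (h : PowerSeries R).map (residue R) ≠ 0 := by
    rw [← Polynomial.polynomial_map_coe, ne_eq, Polynomial.coe_eq_zero_iff]
    exact (hh.monic.map _).ne_zero
  obtain ⟨q, ρ, hq⟩ := z.exists_isWeierstrassDivision hne
  have h2 : (h : PowerSeries R) * (y - PowerSeries.C r * q) = ((Polynomial.C r * ρ : Polynomial R) : PowerSeries R) := by
    rw [Polynomial.coe_mul, Polynomial.coe_C, mul_sub, hz, hq.eq_mul_add]
    ring
  obtain ⟨h3, -⟩ := hd.eq_zero_of_mul_eq ((Polynomial.degree_C_mul hr).trans_lt hq.degree_lt) h2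
  exact ⟨q, sub_eq_zero.1 h3⟩

variable (R) in
/-- `R[T] → N`, `T ↦ u` -/
noncomputable abbrev polyHom : Polynomial R →+* N Δ :=
  Polynomial.eval₂RingHom ((ofD Δ).comp PowerSeries.C) (gu Δ)

theorem exists_pow_gu_mul_eq (c : Polynomial R) :
    ∃ (n : ℕ) (p : Polynomial R), polyHom R Δ p = gu Δ ^ n * ofD Δ (c : PowerSeries R) := by
  induction c using Polynomial.induction_on with
  | C a => exact ⟨0, Polynomial.C a, by simp [polyHom]⟩
  | add c e hc he =>
    obtain ⟨n, p, hp⟩ := hc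
    obtain ⟨m, q, hq⟩ := he
    refine ⟨n + m, Polynomial.X ^ m * p + Polynomial.X ^ n * q, ?_⟩
    simp only [map_add, map_mul, map_pow, Polynomial.coe_add]
    rw [hp, hq, Polynomial.coe_eval₂RingHom, Polynomial.eval₂_X]
    ring
  | monomial k a hk =>
    obtain ⟨n, p, hp⟩ := hk
    refine ⟨n + 1, p * (Polynomial.X ^ 2 + Polynomial.C Δ), ?_⟩
    have hcoe : ∀ j : ℕ, ofD Δ ((Polynomial.C a * Polynomial.X ^ j : Polynomial R) : PowerSeries R) =
        ofD Δ (PowerSeries.C a) * ofD Δ PowerSeries.X ^ j := fun j => by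
      simp only [Polynomial.coe_mul, Polynomial.coe_C, Polynomial.coe_pow, Polynomial.coe_X, map_mul, map_pow]
    rw [map_mul, hp, hcoe, hcoe]
    simp only [map_add, map_pow, Polynomial.coe_eval₂RingHom, Polynomial.eval₂_X, Polynomial.eval₂_C,
      RingHom.comp_apply]
    linear_combination gu Δ ^ n * ofD Δ (PowerSeries.C a) * ofD Δ PowerSeries.X ^ k * gu_sq Δ

/-- height-one primes meeting the general elements are principal -/
theorem principal_of_general [IsAdicComplete (maximalIdeal R) R] (hC : Prime (PowerSeries.C Δ)) (P : Ideal (N Δ))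
    [P.IsPrime] (hPmin : ∀ Q : Ideal (N Δ), Q.IsPrime → Q < P → Q = ⊥) {f : N Δ} (hf : f ∈ P)
    (hgen : f ∈ general Δ hΔ) : ∃ g, P = Ideal.span {g} := by
  haveI : IsDomain R := CommAlgDim.isDomain_of_isRegularLocalRing R
  haveI := RegUFDLib.uniqueFactorizationMonoid R
  have hu : Prime (gu Δ) := gu_prime Δ hC (gu_not_isUnit Δ hΔ)
  by_cases huP : gu Δ ∈ P
  · refine ⟨gu Δ, (eq_of_le_of_not_lt ((Ideal.span_singleton_le_iff_mem _).2 huP) fun hlt => ?_).symm⟩
    exact hu.ne_zero (Ideal.span_singleton_eq_bot.1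
      (hPmin _ ((Ideal.span_singleton_prime hu.ne_zero).2 hu) hlt))
  have hP0 : P ≠ ⊥ := by
    intro h
    have hf0 : f ∈ (⊥ : Ideal (N Δ)) := h ▸ hf
    exact hgen.1 (by rw [(Submodule.mem_bot (N Δ)).1 hf0, map_zero])
  obtain ⟨h, hh, hhP⟩ := exists_distinguished_mem Δ hΔ P hf hgen
  have hne : (h : PowerSeries R).map (residue R) ≠ 0 := by
    rw [← Polynomial.polynomial_map_coe, ne_eq, Polynomial.coe_eq_zero_iff]
    exact (hh.monic.map _).ne_zero
  -- no constants
  have hR : ∀ r : R, ofD Δ (PowerSeries.C r) ∈ P → r = 0 := by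
    intro r hr
    by_contra hr0
    have hc0 : ofD Δ (PowerSeries.C r) ≠ 0 := fun e => hr0 (by
      have := ofD_injective Δ (e.trans (map_zero (ofD Δ)).symm)
      simpa using congrArg PowerSeries.constantCoeff this)
    have hmin : P ∈ (Ideal.span {ofD Δ (PowerSeries.C r)}).minimalPrimes := by
      refine ⟨⟨inferInstance, (Ideal.span_singleton_le_iff_mem _).2 hr⟩, fun Q hQ hle => ?_⟩
      by_contra hne'
      have := hPmin Q hQ.1 (lt_of_le_not_ge hle hne')
      exact hc0 ((Submodule.mem_bot (N Δ)).1 (this ▸ hQ.2 (Ideal.mem_span_singleton_self _)))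
    obtain ⟨y, hy, hxy⟩ := Ideal.exists_mul_mem_of_mem_minimalPrimes hmin hhP
    obtain ⟨a, b, rfl⟩ := exists_rep Δ y
    obtain ⟨z, hz⟩ := Ideal.mem_span_singleton'.1 hxy
    obtain ⟨c, e, rfl⟩ := exists_rep Δ z
    obtain ⟨h1, h2⟩ := rep_ext Δ (a := (h : PowerSeries R) * a) (b := (h : PowerSeries R) * b)
      (a' := c * PowerSeries.C r) (b' := e * PowerSeries.C r) (by
        simp only [map_mul]; linear_combination -hz)
    obtain ⟨a', rfl⟩ := dvd_of_C_dvd_distinguished_mul hh hr0 ⟨c, by rw [h1, mul_comm]⟩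
    obtain ⟨b', rfl⟩ := dvd_of_C_dvd_distinguished_mul hh hr0 ⟨e, by rw [h2, mul_comm]⟩
    exact hy (Ideal.mem_span_singleton'.2 ⟨ofD Δ a' + ofD Δ b' * gu Δ, by simp only [map_mul]; ring⟩)
  let Q' := P.comap (polyHom R Δ)
  have hQ' : ∀ r : R, Polynomial.C r ∈ Q' → r = 0 := fun r hr => hR r (by
    simpa [Q', polyHom] using hr)
  obtain ⟨m, ph, hph⟩ := exists_pow_gu_mul_eq Δ h
  have hphQ : ph ∈ Q' := by
    show polyHom R Δ ph ∈ P
    rw [hph]; exact P.mul_mem_left _ hhP
  have hph0 : ph ≠ 0 := by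
    rintro rfl
    rw [map_zero] at hph
    refine (mul_ne_zero (pow_ne_zero m hu.ne_zero) fun e => hne ?_) hph.symm
    rw [ofD_injective Δ (e.trans (map_zero (ofD Δ)).symm), map_zero]
  obtain ⟨q, hq, hqp⟩ := (inferInstance : Q'.IsPrime).exists_mem_prime_of_ne_bot fun e =>
    hph0 ((Submodule.mem_bot _).1 (e ▸ hphQ))
  have hQeq : Q' = Ideal.span {q} := by
    let M := (nonZeroDivisors R).map (Polynomial.C : R →+* Polynomial R)
    let K := FractionRing R
    letI : Algebra (Polynomial R) (Polynomial K) := Polynomial.algebra R K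
    haveI : IsLocalization M (Polynomial K) := Polynomial.isLocalization (nonZeroDivisors R) K
    have hd : ∀ I : Ideal (Polynomial R), I ≤ Q' → Disjoint (M : Set (Polynomial R)) I := by
      intro I hI
      rw [Set.disjoint_left]
      rintro _ ⟨r, hr, rfl⟩ hrI
      exact nonZeroDivisors.ne_zero hr (hQ' r (hI hrI))
    have hqle : Ideal.span {q} ≤ Q' := (Ideal.span_singleton_le_iff_mem _).2 hq
    haveI hqprime : (Ideal.span {q}).IsPrime := (Ideal.span_singleton_prime hqp.ne_zero).2 hqp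
    haveI := IsLocalization.isPrime_of_isPrime_disjoint M (Polynomial K) _ hqprime (hd _ hqle)
    haveI := IsLocalization.isPrime_of_isPrime_disjoint M (Polynomial K) Q' inferInstance (hd _ le_rfl)
    have hne' : (Ideal.span {q}).map (algebraMap (Polynomial R) (Polynomial K)) ≠ ⊥ := by
      intro e
      have := IsLocalization.comap_map_of_isPrime_disjoint M (Polynomial K) hqprime (hd _ hqle)
      rw [e] at this
      have h0 : q ∈ (⊥ : Ideal (Polynomial K)).comap (algebraMap (Polynomial R) (Polynomial K)) :=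
        this.ge (Ideal.mem_span_singleton_self q)
      rw [Ideal.mem_comap, Ideal.mem_bot] at h0
      exact hqp.ne_zero (Polynomial.map_injective _ (IsFractionRing.injective R K) (h0.trans (Polynomial.map_zero _).symm))
    have := (IsPrime.to_maximal_ideal hne').eq_of_le (Ideal.IsPrime.ne_top inferInstance)
      (Ideal.map_mono (f := algebraMap (Polynomial R) (Polynomial K)) hqle)
    rw [← IsLocalization.comap_map_of_isPrime_disjoint M (Polynomial K) (inferInstance : Q'.IsPrime) (hd _ le_rfl),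
      ← this, IsLocalization.comap_map_of_isPrime_disjoint M (Polynomial K) hqprime (hd _ hqle)]
  have hhg : gu Δ ^ m * ofD Δ (h : PowerSeries R) ∈ Ideal.span {polyHom R Δ q} := by
    rw [← hph, ← Set.image_singleton, ← Ideal.map_span, ← hQeq]
    exact Ideal.mem_map_of_mem _ hphQ
  refine principal_of_saturation P hP0 {x | ∃ n, x ∣ gu Δ ^ n} (fun s ⟨n, hn⟩ => ne_zero_of_dvd_ne_zero
      (pow_ne_zero n hu.ne_zero) hn) (fun a b ⟨n, hn⟩ hab => ⟨n, hab.trans hn⟩) (fun s ⟨n, hn⟩ hs => ?_)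
    (polyHom R Δ q) hq ?_
  · obtain ⟨i, -, hi⟩ := (dvd_prime_pow hu n).1 hn
    refine ⟨gu Δ, hu, huP, ?_⟩
    rcases Nat.eq_zero_or_pos i with h0 | h0
    · exact absurd (by rw [h0, pow_zero] at hi; exact associated_one_iff_isUnit.1 hi) hs
    · exact (dvd_pow_self (gu Δ) h0.ne').trans hi.symm.dvd
  · intro a ha
    obtain ⟨c, e, rfl⟩ := exists_rep Δ a
    obtain ⟨qc, rc, hc⟩ := c.exists_isWeierstrassDivision hne
    obtain ⟨qe, re, he⟩ := e.exists_isWeierstrassDivision hne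
    have hsplit : ofD Δ c + ofD Δ e * gu Δ =
        ofD Δ (h : PowerSeries R) * (ofD Δ qc + ofD Δ qe * gu Δ) +
          (ofD Δ (rc : PowerSeries R) + ofD Δ (re : PowerSeries R) * gu Δ) := by
      rw [hc.eq_mul_add, he.eq_mul_add]; simp only [map_add, map_mul]; ring
    have hb : ofD Δ (rc : PowerSeries R) + ofD Δ (re : PowerSeries R) * gu Δ ∈ P := by
      have h3 := P.sub_mem ha (P.mul_mem_right (ofD Δ qc + ofD Δ qe * gu Δ) hhP)
      rw [hsplit, add_sub_cancel_left] at h3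
      exact h3
    obtain ⟨n1, p1, hp1⟩ := exists_pow_gu_mul_eq Δ rc
    obtain ⟨n2, p2, hp2⟩ := exists_pow_gu_mul_eq Δ re
    have hpoly : polyHom R Δ (Polynomial.X ^ n2 * p1 + Polynomial.X ^ (n1 + 1) * p2) =
        gu Δ ^ (n1 + n2) * (ofD Δ (rc : PowerSeries R) + ofD Δ (re : PowerSeries R) * gu Δ) := by
      rw [map_add, map_mul, map_mul, hp1, hp2, map_pow, map_pow, Polynomial.coe_eval₂RingHom, Polynomial.eval₂_X]
      ring
    have hbg : gu Δ ^ (n1 + n2) * (ofD Δ (rc : PowerSeries R) + ofD Δ (re : PowerSeries R) * gu Δ) ∈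
        Ideal.span {polyHom R Δ q} := by
      rw [← hpoly, ← Set.image_singleton, ← Ideal.map_span, ← hQeq]
      refine Ideal.mem_map_of_mem _ ?_
      show polyHom R Δ _ ∈ P
      rw [hpoly]; exact P.mul_mem_left _ hb
    refine ⟨gu Δ ^ (m + (n1 + n2)), ⟨_, dvd_rfl⟩, ?_⟩
    rw [hsplit, mul_add, pow_add]
    refine add_mem ?_ ?_
    · rw [show gu Δ ^ m * gu Δ ^ (n1 + n2) * (ofD Δ (h : PowerSeries R) * (ofD Δ qc + ofD Δ qe * gu Δ)) =
        (gu Δ ^ m * ofD Δ (h : PowerSeries R)) * (gu Δ ^ (n1 + n2) * (ofD Δ qc + ofD Δ qe * gu Δ)) by ring]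
      exact Ideal.mul_mem_right _ _ hhg
    · rw [mul_assoc]
      exact Ideal.mul_mem_left _ _ hbg

omit [IsDomain (N Δ)] in
theorem spanFinrank_map_le {B : Type u} [CommRing B] (f : R →+* B) :
    ((maximalIdeal R).map f).spanFinrank ≤ (maximalIdeal R).spanFinrank :=
  Ideal.spanFinrank_map_le_of_fg f (IsNoetherian.noetherian _)

/-- the local ring at a branch point is regular, so a height-one prime there is locally principal -/
theorem exists_local_gen (P : Ideal (N Δ)) [P.IsPrime] (hP0 : P ≠ ⊥)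
    (hPmin : ∀ Q : Ideal (N Δ), Q.IsPrime → Q < P → Q = ⊥) (br : N Δ →+* PowerSeries (ResidueField R))
    (hbr : ∀ a, br (ofD Δ a) = PowerSeries.map (residue R) a)
    (hker : ∀ f : N Δ, br f = 0 → ∃ s, br s ≠ 0 ∧
      s * f ∈ (maximalIdeal R).map ((ofD Δ).comp PowerSeries.C)) :
    ∃ a ∈ P, ∀ x ∈ P, ∃ s, br s ≠ 0 ∧ s * x ∈ Ideal.span {a} := by
  by_cases hle : P ≤ RingHom.ker br
  swap
  · obtain ⟨a, ha, hna⟩ := SetLike.not_le_iff_exists.1 hle
    exact ⟨a, ha, fun x _ => ⟨a, hna, Ideal.mul_mem_right _ _ (Ideal.mem_span_singleton_self a)⟩⟩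
  let 𝔭 := RingHom.ker br
  haveI : 𝔭.IsPrime := RingHom.ker_isPrime _
  let L := Localization.AtPrime 𝔭
  have hmax : maximalIdeal L = (maximalIdeal R).map ((algebraMap (N Δ) L).comp ((ofD Δ).comp PowerSeries.C)) := by
    refine le_antisymm ?_ ?_
    · rw [← Localization.AtPrime.map_eq_maximalIdeal, Ideal.map_le_iff_le_comap]
      intro f hf
      obtain ⟨s, hs, hsf⟩ := hker f hf
      have := Ideal.mem_map_of_mem (algebraMap (N Δ) L) hsf
      rw [Ideal.map_map, map_mul, Ideal.unit_mul_mem_iff_mem _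
        ((IsLocalization.AtPrime.isUnit_to_map_iff L 𝔭 s).2 hs)] at this
      exact this
    · rw [Ideal.map_le_iff_le_comap]
      intro r hr
      rw [← Localization.AtPrime.map_eq_maximalIdeal]
      refine Ideal.mem_map_of_mem _ ?_
      show br (ofD Δ (PowerSeries.C r)) = 0
      rw [hbr, map_C_eq_zero hr]
  haveI : Module.Finite (PowerSeries R) (N Δ) := (quad_monic Δ).finite_adjoinRoot
  haveI : Module.Free (PowerSeries R) (N Δ) := (quad_monic Δ).free_adjoinRoot
  let 𝔐 := RingHom.ker (PowerSeries.map (residue R))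
  haveI : 𝔐.IsPrime := RingHom.ker_isPrime _
  haveI : 𝔭.LiesOver 𝔐 := ⟨Ideal.ext fun a => by
    show a ∈ 𝔐 ↔ br (algebraMap (PowerSeries R) (N Δ) a) = 0
    rw [AdjoinRoot.algebraMap_eq, hbr]; rfl⟩
  haveI := Algebra.HasGoingDown.of_flat (R := PowerSeries R) (S := N Δ)
  have hht : (maximalIdeal R).height ≤ 𝔭.height := by
    rw [Ideal.height_eq_height_add_of_liesOver_of_hasGoingDown 𝔐 𝔭]
    exact height_le_height_ker.trans le_self_add
  haveI : IsRegularLocalRing L := by
    refine IsRegularLocalRing.of_spanFinrank_maximalIdeal_le L ?_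
    rw [IsLocalization.AtPrime.ringKrullDim_eq_height 𝔭 L, hmax]
    refine le_trans (Nat.cast_le.2 (spanFinrank_map_le _)) ?_
    rw [IsRegularLocalRing.spanFinrank_maximalIdeal, ← IsLocalRing.maximalIdeal_height_eq_ringKrullDim]
    exact WithBot.coe_le_coe.2 hht
  haveI : IsDomain L := CommAlgDim.isDomain_of_isRegularLocalRing L
  haveI := RegUFDLib.uniqueFactorizationMonoid L
  have hdisj : Disjoint (𝔭.primeCompl : Set (N Δ)) P := Set.disjoint_left.2 fun x hx hxP => hx (hle hxP)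
  haveI := IsLocalization.isPrime_of_isPrime_disjoint 𝔭.primeCompl L P inferInstance hdisj
  have hne : P.map (algebraMap (N Δ) L) ≠ ⊥ := by
    intro e
    refine hP0 ?_
    rw [← IsLocalization.comap_map_of_isPrime_disjoint 𝔭.primeCompl L (inferInstance : P.IsPrime) hdisj, e]
    exact Ideal.comap_bot_of_injective _ (IsLocalization.injective L 𝔭.primeCompl_le_nonZeroDivisors)
  obtain ⟨p, hp, hpp⟩ := (inferInstance : (P.map (algebraMap (N Δ) L)).IsPrime).exists_mem_prime_of_ne_bot hne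
  obtain ⟨⟨a, t⟩, hat⟩ := IsLocalization.surj 𝔭.primeCompl p
  have hassoc : Ideal.span {algebraMap (N Δ) L a} = Ideal.span {p} := by
    rw [← hat]; exact Ideal.span_singleton_mul_right_unit (IsLocalization.map_units L t) p
  have hcomap : (Ideal.span {p}).comap (algebraMap (N Δ) L) = P := by
    haveI : (Ideal.span {p}).IsPrime := (Ideal.span_singleton_prime hpp.ne_zero).2 hpp
    refine eq_of_le_of_not_lt ?_ fun hlt => ?_
    · rw [← IsLocalization.comap_map_of_isPrime_disjoint 𝔭.primeCompl L (inferInstance : P.IsPrime) hdisj]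
      exact Ideal.comap_mono ((Ideal.span_singleton_le_iff_mem _).2 hp)
    · have := hPmin _ (Ideal.IsPrime.comap _) hlt
      have h1 : a ∈ (Ideal.span {p}).comap (algebraMap (N Δ) L) := by
        rw [Ideal.mem_comap, ← hassoc]; exact Ideal.mem_span_singleton_self _
      rw [this, Ideal.mem_bot] at h1
      subst h1
      rw [map_zero, Ideal.span_singleton_eq_bot.2 rfl, eq_comm, Ideal.span_singleton_eq_bot] at hassoc
      exact hpp.ne_zero hassoc
  refine ⟨a, ?_, fun x hx => ?_⟩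
  · rw [← hcomap, Ideal.mem_comap, ← hassoc]; exact Ideal.mem_span_singleton_self _
  · rw [← hcomap, Ideal.mem_comap, ← hassoc, ← Set.image_singleton, ← Ideal.map_span,
      IsLocalization.algebraMap_mem_map_algebraMap_iff 𝔭.primeCompl] at hx
    exact hx

theorem general_of_dvd {a b : N Δ} (hb : br0 Δ hΔ b ≠ 0 ∧ br1 Δ hΔ b ≠ 0) (hab : a ∣ b) :
    br0 Δ hΔ a ≠ 0 ∧ br1 Δ hΔ a ≠ 0 := by
  obtain ⟨c, rfl⟩ := hab
  exact ⟨left_ne_zero_of_mul (by rw [← map_mul]; exact hb.1), left_ne_zero_of_mul (by rw [← map_mul]; exact hb.2)⟩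

/-- height-one primes avoiding the general elements are principal -/
theorem principal_of_special [IsAdicComplete (maximalIdeal R) R] (hC : Prime (PowerSeries.C Δ)) (P : Ideal (N Δ))
    [P.IsPrime] (hP0 : P ≠ ⊥) (hPmin : ∀ Q : Ideal (N Δ), Q.IsPrime → Q < P → Q = ⊥)
    (hsp : ∀ f ∈ P, f ∉ general Δ hΔ) : ∃ g, P = Ideal.span {g} := by
  haveI : IsDomain R := CommAlgDim.isDomain_of_isRegularLocalRing R
  let M := (maximalIdeal R).map ((ofD Δ).comp PowerSeries.C)
  have hM : ∀ a, PowerSeries.map (residue R) a = 0 → ofD Δ a ∈ M := fun a ha => by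
    show ofD Δ a ∈ (maximalIdeal R).map ((ofD Δ).comp PowerSeries.C)
    rw [← Ideal.map_map]
    exact Ideal.mem_map_of_mem _ (mem_map_C_of_map_eq_zero ha)
  have hMC : ofD Δ (PowerSeries.C Δ) ∈ M := hM _ (map_C_eq_zero hΔ)
  have hX : (PowerSeries.X : PowerSeries (ResidueField R)) ≠ 0 := PowerSeries.X_ne_zero
  obtain ⟨a₀, ha₀, h₀⟩ := exists_local_gen Δ P hP0 hPmin (br0 Δ hΔ) (br0_ofD Δ hΔ) fun f hf => by
    obtain ⟨a, b, rfl⟩ := exists_rep Δ f
    refine ⟨gv Δ, by rw [br0_gv]; exact hX, ?_⟩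
    have ha : PowerSeries.map (residue R) a = 0 := by
      simpa [br0_ofD, br0_gu] using hf
    rw [mul_add, mul_left_comm, mul_comm (gv Δ) (gu Δ), gu_mul_gv]
    exact add_mem (Ideal.mul_mem_left _ _ (hM a ha)) (Ideal.mul_mem_left _ _ hMC)
  obtain ⟨a₁, ha₁, h₁⟩ := exists_local_gen Δ P hP0 hPmin (br1 Δ hΔ) (br1_ofD Δ hΔ) fun f hf => by
    obtain ⟨a, b, rfl⟩ := exists_rep Δ f
    refine ⟨gu Δ, by rw [br1_gu]; exact hX, ?_⟩
    have ha : PowerSeries.map (residue R) (a + b * PowerSeries.X) = 0 := by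
      simpa [br1_ofD, br1_gu, map_add, map_mul] using hf
    rw [show gu Δ * (ofD Δ a + ofD Δ b * gu Δ) =
      gu Δ * ofD Δ (a + b * PowerSeries.X) - ofD Δ b * ofD Δ (PowerSeries.C Δ) by
        simp only [map_add, map_mul]; linear_combination ofD Δ b * gu_sq Δ]
    exact sub_mem (Ideal.mul_mem_left _ _ (hM _ ha)) (Ideal.mul_mem_left _ _ hMC)
  let g := a₀ * gv Δ + a₁ * gu Δ
  have hgP : g ∈ P := add_mem (P.mul_mem_right _ ha₀) (P.mul_mem_right _ ha₁)
  have key : ∀ x ∈ P, ∃ s ∈ general Δ hΔ, s * x ∈ Ideal.span {g} := by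
    intro x hx
    let J : Ideal (N Δ) := Submodule.comap (LinearMap.toSpanSingleton (N Δ) (N Δ) x) (Ideal.span {g})
    have hJ : ∀ s, s ∈ J ↔ s * x ∈ Ideal.span {g} := fun s => Iff.rfl
    obtain ⟨t, ht, hta⟩ := h₀ a₁ ha₁
    obtain ⟨c, hc⟩ := Ideal.mem_span_singleton'.1 hta
    obtain ⟨s, hs, hsx⟩ := h₀ x hx
    obtain ⟨e, he⟩ := Ideal.mem_span_singleton'.1 hsx
    have hm0 : (t * gv Δ + c * gu Δ) * s ∈ J := by
      rw [hJ]
      exact Ideal.mem_span_singleton'.2 ⟨t * e, by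
        simp only [g]; linear_combination (t * gv Δ + c * gu Δ) * he - gu Δ * e * hc⟩
    have hm0' : br0 Δ hΔ ((t * gv Δ + c * gu Δ) * s) ≠ 0 := by
      rw [map_mul, map_add, map_mul, map_mul, br0_gv, br0_gu, mul_zero, add_zero]
      exact mul_ne_zero (mul_ne_zero ht hX) hs
    obtain ⟨t', ht', hta'⟩ := h₁ a₀ ha₀
    obtain ⟨c', hc'⟩ := Ideal.mem_span_singleton'.1 hta'
    obtain ⟨s', hs', hsx'⟩ := h₁ x hx
    obtain ⟨e', he'⟩ := Ideal.mem_span_singleton'.1 hsx'
    have hm1 : (c' * gv Δ + t' * gu Δ) * s' ∈ J := by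
      rw [hJ]
      exact Ideal.mem_span_singleton'.2 ⟨t' * e', by
        simp only [g]; linear_combination (c' * gv Δ + t' * gu Δ) * he' - gv Δ * e' * hc'⟩
    have hm1' : br1 Δ hΔ ((c' * gv Δ + t' * gu Δ) * s') ≠ 0 := by
      rw [map_mul, map_add, map_mul, map_mul, br1_gv, br1_gu, mul_zero, zero_add]
      exact mul_ne_zero (mul_ne_zero ht' hX) hs'
    by_contra H
    push Not at H
    have hsub : (J : Set (N Δ)) ⊆ (RingHom.ker (br0 Δ hΔ) : Set (N Δ)) ∪ RingHom.ker (br1 Δ hΔ) := by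
      intro z hz
      by_contra hzu
      simp only [Set.mem_union, SetLike.mem_coe, RingHom.mem_ker, not_or] at hzu
      exact H z hzu ((hJ z).1 hz)
    rcases Ideal.subset_union.1 hsub with h | h
    · exact hm0' (h hm0)
    · exact hm1' (h hm1)
  refine principal_of_saturation P hP0 (general Δ hΔ) (fun s hs h0 => hs.1 (by rw [h0, map_zero]))
    (fun a b hb hab => general_of_dvd Δ hΔ hb hab) (fun s hs hu => ?_) g hgP key
  obtain ⟨Q, hQ⟩ := Ideal.nonempty_minimalPrimes (I := Ideal.span {s})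
    (fun h => hu (Ideal.span_singleton_eq_top.1 h))
  have hQs := hQ.1.2
  haveI := hQ.1.1
  have hmin : ∀ Q' : Ideal (N Δ), Q'.IsPrime → Q' < Q → Q' = ⊥ := fun Q' _ hlt => eq_bot_of_lt_minimal hQ hlt
  obtain ⟨q, rfl⟩ := principal_of_general Δ hΔ hC Q hmin (hQs (Ideal.mem_span_singleton_self s)) hs
  have hqs : q ∣ s := Ideal.mem_span_singleton.1 (hQs (Ideal.mem_span_singleton_self s))
  refine ⟨q, (Ideal.span_singleton_prime ?_).1 inferInstance, fun hqP => hsp q hqP (general_of_dvd Δ hΔ hs hqs), hqs⟩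
  rintro rfl
  exact hs.1 (by rw [zero_dvd_iff.1 hqs, map_zero])

include hΔ in
/-- the double cover is factorial -/
theorem ufd [IsAdicComplete (maximalIdeal R) R] (hC : Prime (PowerSeries.C Δ)) :
    UniqueFactorizationMonoid (N Δ) := by
  refine UniqueFactorizationMonoid.iff_exists_prime_mem_of_isPrime.2 fun I hI hIp => ?_
  obtain ⟨x, hx, hx0⟩ := Submodule.exists_mem_ne_zero_of_ne_bot hI
  obtain ⟨P, hP, hPI⟩ := Ideal.exists_minimalPrimes_le (I := Ideal.span {x}) (J := I)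
    ((Ideal.span_singleton_le_iff_mem _).2 hx)
  haveI := hP.1.1
  have hxP : x ∈ P := hP.1.2 (Ideal.mem_span_singleton_self x)
  have hP0 : P ≠ ⊥ := fun h => hx0 ((Submodule.mem_bot (N Δ)).1 (h ▸ hxP))
  have hmin : ∀ Q : Ideal (N Δ), Q.IsPrime → Q < P → Q = ⊥ := fun Q _ hlt => eq_bot_of_lt_minimal hP hlt
  obtain ⟨g, hg⟩ : ∃ g, P = Ideal.span {g} := by
    by_cases h : ∃ f ∈ P, f ∈ general Δ hΔ
    · obtain ⟨f, hf, hgen⟩ := h
      exact principal_of_general Δ hΔ hC P hmin hf hgen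
    · push Not at h
      exact principal_of_special Δ hΔ hC P hP0 hmin h
  refine ⟨g, hPI (hg ▸ Ideal.mem_span_singleton_self g), (Ideal.span_singleton_prime ?_).1 (hg ▸ inferInstance)⟩
  rintro rfl
  exact hP0 (hg.trans (Ideal.span_singleton_eq_bot.2 rfl))


end NodeUFDLib
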