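import Mathlib

/-! The double cover `R[[w]][u]/(u² - w u + Δ)`, a model for `R[[u,v]]/(uv - Δ)`. -/

set_option autoImplicit false
universe u

open PowerSeries IsLocalRing

namespace NodeUFDLib

variable {R : Type u} [CommRing R] (Δ : R)

/-- `u² - w u + Δ` -/
noncomputable def quad : Polynomial (PowerSeries R) :=
  Polynomial.X ^ 2 - Polynomial.C PowerSeries.X * Polynomial.X + Polynomial.C (PowerSeries.C Δ)

/-- the double cover -/
abbrev N := AdjoinRoot (quad Δ)

/-- the coefficient map -/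
noncomputable abbrev ofD : PowerSeries R →+* N Δ := AdjoinRoot.of (quad Δ)

/-- first branch parameter -/
noncomputable abbrev gu : N Δ := AdjoinRoot.root (quad Δ)

/-- second branch parameter -/
noncomputable abbrev gv : N Δ := ofD Δ PowerSeries.X - gu Δ

theorem gu_sq : gu Δ ^ 2 = ofD Δ PowerSeries.X * gu Δ - ofD Δ (PowerSeries.C Δ) := by
  have h : AdjoinRoot.mk (quad Δ) (Polynomial.X ^ 2 - Polynomial.C PowerSeries.X * Polynomial.X +
      Polynomial.C (PowerSeries.C Δ)) = 0 := AdjoinRoot.mk_self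
  rw [map_add, map_sub, map_mul, map_pow, AdjoinRoot.mk_X, AdjoinRoot.mk_C, AdjoinRoot.mk_C] at h
  linear_combination h

theorem gu_mul_gv : gu Δ * gv Δ = ofD Δ (PowerSeries.C Δ) := by
  linear_combination -(gu_sq Δ)

theorem quad_monic : (quad Δ).Monic := by
  unfold quad; monicity!

theorem quad_natDegree [Nontrivial R] : (quad Δ).natDegree = 2 := by
  unfold quad; compute_degree!

theorem exists_rep [Nontrivial R] (f : N Δ) : ∃ a b, f = ofD Δ a + ofD Δ b * gu Δ := by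
  obtain ⟨p, rfl⟩ := AdjoinRoot.mk_surjective f
  have hne : quad Δ ≠ 1 := fun h => by
    have := congrArg Polynomial.natDegree h
    rw [quad_natDegree, Polynomial.natDegree_one] at this
    omega
  have hdeg : (p %ₘ quad Δ).natDegree ≤ 1 := by
    have := Polynomial.natDegree_modByMonic_lt p (quad_monic Δ) hne
    rw [quad_natDegree] at this
    omega
  obtain ⟨b, a, hab⟩ := Polynomial.exists_eq_X_add_C_of_natDegree_le_one hdeg
  refine ⟨a, b, ?_⟩
  have h : AdjoinRoot.mk (quad Δ) p = AdjoinRoot.mk (quad Δ) (p %ₘ quad Δ) := by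
    rw [AdjoinRoot.mk_eq_mk]
    exact ⟨p /ₘ quad Δ, by rw [Polynomial.modByMonic_eq_sub_mul_div]; ring⟩
  rw [h, hab, map_add, map_mul, AdjoinRoot.mk_C, AdjoinRoot.mk_C, AdjoinRoot.mk_X, add_comm]

theorem rep_eq_zero [Nontrivial R] {a b : PowerSeries R} (h : ofD Δ a + ofD Δ b * gu Δ = 0) :
    a = 0 ∧ b = 0 := by
  have h1 : AdjoinRoot.mk (quad Δ) (Polynomial.C b * Polynomial.X + Polynomial.C a) = 0 := by
    rw [map_add, map_mul, AdjoinRoot.mk_C, AdjoinRoot.mk_C, AdjoinRoot.mk_X, add_comm]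
    exact h
  rw [AdjoinRoot.mk_eq_zero] at h1
  by_contra hab
  have h2 : Polynomial.C b * Polynomial.X + Polynomial.C a ≠ 0 := by
    intro h3
    refine hab ⟨?_, ?_⟩
    · simpa using congrArg (fun p => Polynomial.coeff p 0) h3
    · simpa using congrArg (fun p => Polynomial.coeff p 1) h3
  have h4 : (Polynomial.C b * Polynomial.X + Polynomial.C a).natDegree ≤ 1 := Polynomial.natDegree_linear_le
  refine (Polynomial.Monic.not_dvd_of_natDegree_lt (quad_monic Δ) h2 ?_) h1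
  rw [quad_natDegree]
  omega

theorem rep_ext [Nontrivial R] {a b a' b' : PowerSeries R}
    (h : ofD Δ a + ofD Δ b * gu Δ = ofD Δ a' + ofD Δ b' * gu Δ) : a = a' ∧ b = b' := by
  have := rep_eq_zero Δ (a := a - a') (b := b - b') (by rw [map_sub, map_sub]; linear_combination h)
  exact ⟨sub_eq_zero.1 this.1, sub_eq_zero.1 this.2⟩

theorem ofD_injective [Nontrivial R] : Function.Injective (ofD Δ) := fun a b h =>
  (rep_ext Δ (a := a) (b := 0) (a' := b) (b' := 0) (by rw [h])).1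

theorem rep_mul_conj (a b : PowerSeries R) :
    (ofD Δ a + ofD Δ b * gu Δ) * (ofD Δ a + ofD Δ b * gv Δ) =
      ofD Δ (a ^ 2 + a * b * PowerSeries.X + b ^ 2 * PowerSeries.C Δ) := by
  simp only [map_add, map_mul, map_pow]
  linear_combination ofD Δ b ^ 2 * gu_mul_gv Δ

theorem gu_ne_zero [Nontrivial R] : gu Δ ≠ 0 := fun h =>
  one_ne_zero (α := PowerSeries R) (rep_eq_zero Δ (a := 0) (b := 1) (by simp [h])).2

theorem gu_dvd_rep [Nontrivial R] (a b : PowerSeries R) :
    gu Δ ∣ ofD Δ a + ofD Δ b * gu Δ ↔ PowerSeries.C Δ ∣ a := by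
  constructor
  · rintro ⟨z, hz⟩
    obtain ⟨c, e, rfl⟩ := exists_rep Δ z
    have h : ofD Δ a + ofD Δ b * gu Δ = ofD Δ (-(e * PowerSeries.C Δ)) + ofD Δ (c + e * PowerSeries.X) * gu Δ := by
      rw [hz]
      simp only [map_add, map_mul, map_neg]
      linear_combination ofD Δ e * gu_sq Δ
    exact ⟨-e, by rw [(rep_ext Δ h).1]; ring⟩
  · rintro ⟨c, rfl⟩
    rw [map_mul, ← gu_mul_gv]
    exact ⟨gv Δ * ofD Δ c + ofD Δ b, by ring⟩

instance [IsNoetherianRing R] : IsNoetherianRing (N Δ) := by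
  haveI : Module.Finite (PowerSeries R) (N Δ) := (quad_monic Δ).finite_adjoinRoot
  exact IsNoetherianRing.of_finite (PowerSeries R) (N Δ)

/-! ### domain -/

theorem gu_prime [IsDomain R] (hC : Prime (PowerSeries.C Δ)) (hu : ¬ IsUnit (gu Δ)) : Prime (gu Δ) := by
  refine ⟨gu_ne_zero Δ, hu, fun x y hxy => ?_⟩
  obtain ⟨a, b, rfl⟩ := exists_rep Δ x
  obtain ⟨a', b', rfl⟩ := exists_rep Δ y
  rw [gu_dvd_rep, gu_dvd_rep]
  refine hC.dvd_or_dvd ((gu_dvd_rep Δ (a * a') 0).1 ?_)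
  rw [map_zero, zero_mul, add_zero, map_mul]
  have h1 : ofD Δ a * ofD Δ a' = (ofD Δ a + ofD Δ b * gu Δ) * (ofD Δ a' + ofD Δ b' * gu Δ)
      - gu Δ * (ofD Δ a * ofD Δ b' + ofD Δ b * ofD Δ a' + ofD Δ b * ofD Δ b' * gu Δ) := by ring
  rw [h1]
  exact dvd_sub hxy (dvd_mul_right _ _)

theorem norm_ne_zero [IsDomain R] [UniqueFactorizationMonoid (PowerSeries R)] (hΔ : ¬ IsUnit Δ)
    (hC : Prime (PowerSeries.C Δ)) {a b : PowerSeries R} (hab : a ≠ 0 ∨ b ≠ 0) :
    a ^ 2 + a * b * PowerSeries.X + b ^ 2 * PowerSeries.C Δ ≠ 0 := by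
  intro h
  by_cases hb : b = 0
  · subst hb
    simp only [mul_zero, zero_mul, add_zero, ne_eq, OfNat.ofNat_ne_zero, not_false_eq_true, zero_pow] at h
    exact (hab.resolve_right (by simp)) (pow_eq_zero_iff (by norm_num : 2 ≠ 0) |>.1 h)
  obtain ⟨b', a', c, hrel, hb', ha'⟩ := UniqueFactorizationMonoid.exists_reduced_factors b hb a
  subst hb' ha'
  have hc : c ≠ 0 := fun hc => hb (by rw [hc, zero_mul])
  have h' : a' ^ 2 + a' * b' * PowerSeries.X + b' ^ 2 * PowerSeries.C Δ = 0 := by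
    refine (mul_eq_zero.1 ?_).resolve_left (pow_ne_zero 2 hc)
    linear_combination h
  have hdvd : b' ∣ a' * a' := ⟨-(a' * PowerSeries.X + b' * PowerSeries.C Δ), by linear_combination h'⟩
  have hu : IsUnit b' := hrel.isUnit_of_dvd (hrel.dvd_of_dvd_mul_right hdvd)
  obtain ⟨bi, hbi⟩ := hu.exists_left_inv
  let z := -(a' * bi)
  have hz : z * (PowerSeries.X - z) = PowerSeries.C Δ := by
    linear_combination (-(bi ^ 2)) * h' + (a' * PowerSeries.X * bi + (bi * b' + 1) * PowerSeries.C Δ) * hbi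
  have hcc := congrArg PowerSeries.constantCoeff hz
  simp only [map_mul, map_sub, PowerSeries.constantCoeff_X, zero_sub, PowerSeries.constantCoeff_C] at hcc
  refine hΔ (hcc ▸ ?_)
  rcases hC.irreducible.isUnit_or_isUnit hz.symm with h1 | h1
  · have := PowerSeries.isUnit_iff_constantCoeff.1 h1
    exact this.mul this.neg
  · have := PowerSeries.isUnit_iff_constantCoeff.1 h1
    rw [map_sub, PowerSeries.constantCoeff_X, zero_sub, IsUnit.neg_iff] at this
    exact this.mul this.neg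

theorem isDomain [IsDomain R] [UniqueFactorizationMonoid (PowerSeries R)] (hΔ : ¬ IsUnit Δ)
    (hC : Prime (PowerSeries.C Δ)) : IsDomain (N Δ) := by
  haveI : Nontrivial (N Δ) := ⟨⟨gu Δ, 0, gu_ne_zero Δ⟩⟩
  haveI : NoZeroDivisors (N Δ) := ⟨fun {x y} hxy => by
    by_cases hx : x = 0
    · exact .inl hx
    right
    obtain ⟨a, b, rfl⟩ := exists_rep Δ x
    obtain ⟨c, e, rfl⟩ := exists_rep Δ y
    have hab : a ≠ 0 ∨ b ≠ 0 := by
      by_contra h
      simp only [not_or, not_not] at h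
      exact hx (by rw [h.1, h.2]; simp)
    have hn := norm_ne_zero Δ hΔ hC hab
    have h2 := congrArg (fun t => t * (ofD Δ a + ofD Δ b * gv Δ)) hxy
    simp only [zero_mul] at h2
    rw [mul_right_comm, rep_mul_conj, mul_add, ← mul_assoc, ← map_mul, ← map_mul] at h2
    obtain ⟨h3, h4⟩ := rep_eq_zero Δ h2
    rw [(mul_eq_zero.1 h3).resolve_left hn, (mul_eq_zero.1 h4).resolve_left hn]
    simp⟩
  exact NoZeroDivisors.to_isDomain _

/-! ### the two branches over the residue field -/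

variable [IsLocalRing R] (hΔ : Δ ∈ maximalIdeal R)

theorem map_C_eq_zero {Δ : R} (hΔ : Δ ∈ maximalIdeal R) :
    PowerSeries.map (residue R) (PowerSeries.C Δ) = 0 := by
  rw [PowerSeries.map_C, (residue_eq_zero_iff Δ).2 hΔ, map_zero]

/-- branch `u = 0` -/
noncomputable def br0 : N Δ →+* PowerSeries (ResidueField R) :=
  AdjoinRoot.lift (PowerSeries.map (residue R)) 0 (by
    simp [quad, map_C_eq_zero hΔ])

/-- branch `v = 0` -/
noncomputable def br1 : N Δ →+* PowerSeries (ResidueField R) :=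
  AdjoinRoot.lift (PowerSeries.map (residue R)) PowerSeries.X (by
    simp [quad, map_C_eq_zero hΔ, sq])

theorem br0_ofD (a : PowerSeries R) : br0 Δ hΔ (ofD Δ a) = PowerSeries.map (residue R) a :=
  AdjoinRoot.lift_of _

theorem br1_ofD (a : PowerSeries R) : br1 Δ hΔ (ofD Δ a) = PowerSeries.map (residue R) a :=
  AdjoinRoot.lift_of _

theorem br0_gu : br0 Δ hΔ (gu Δ) = 0 := AdjoinRoot.lift_root _

theorem br1_gu : br1 Δ hΔ (gu Δ) = PowerSeries.X := AdjoinRoot.lift_root _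

theorem br0_gv : br0 Δ hΔ (gv Δ) = PowerSeries.X := by
  rw [map_sub, br0_ofD, br0_gu, PowerSeries.map_X, sub_zero]

theorem br1_gv : br1 Δ hΔ (gv Δ) = 0 := by
  rw [map_sub, br1_ofD, br1_gu, PowerSeries.map_X, sub_self]

theorem br_conj (a b : PowerSeries R) :
    br0 Δ hΔ (ofD Δ a + ofD Δ b * gv Δ) = br1 Δ hΔ (ofD Δ a + ofD Δ b * gu Δ) := by
  simp only [map_add, map_mul, br0_ofD, br1_ofD, br0_gv, br1_gu]

theorem map_norm (a b : PowerSeries R) :
    PowerSeries.map (residue R) (a ^ 2 + a * b * PowerSeries.X + b ^ 2 * PowerSeries.C Δ) =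
      br0 Δ hΔ (ofD Δ a + ofD Δ b * gu Δ) * br1 Δ hΔ (ofD Δ a + ofD Δ b * gu Δ) := by
  rw [← br_conj, ← map_mul, rep_mul_conj, br0_ofD]

theorem constantCoeff_br_eq [Nontrivial R] (f : N Δ) :
    PowerSeries.constantCoeff (br0 Δ hΔ f) = PowerSeries.constantCoeff (br1 Δ hΔ f) := by
  obtain ⟨a, b, rfl⟩ := exists_rep Δ f
  simp [br0_ofD, br1_ofD, br0_gu, br1_gu]

theorem isUnit_iff (f : N Δ) : IsUnit f ↔ PowerSeries.constantCoeff (br1 Δ hΔ f) ≠ 0 := by
  refine ⟨fun h => ((h.map (br1 Δ hΔ)).map PowerSeries.constantCoeff).ne_zero, fun h => ?_⟩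
  obtain ⟨a, b, rfl⟩ := exists_rep Δ f
  have hu : IsUnit (a ^ 2 + a * b * PowerSeries.X + b ^ 2 * PowerSeries.C Δ) := by
    rw [PowerSeries.isUnit_iff_constantCoeff, ← residue_ne_zero_iff_isUnit]
    have e := congrArg PowerSeries.constantCoeff (map_norm Δ hΔ a b)
    rw [← PowerSeries.coeff_zero_eq_constantCoeff_apply, PowerSeries.coeff_map, PowerSeries.coeff_zero_eq_constantCoeff_apply,
      map_mul, constantCoeff_br_eq] at e
    rw [e]
    exact mul_ne_zero h h
  exact isUnit_of_mul_isUnit_left ((rep_mul_conj Δ a b) ▸ hu.map (ofD Δ))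

include hΔ in
theorem gu_not_isUnit : ¬ IsUnit (gu Δ) := by
  rw [isUnit_iff Δ hΔ, br1_gu, PowerSeries.constantCoeff_X]
  simp

include hΔ in
theorem gu_irreducible : Irreducible (gu Δ) := by
  refine ⟨gu_not_isUnit Δ hΔ, fun a b hab => ?_⟩
  rw [isUnit_iff Δ hΔ, isUnit_iff Δ hΔ]
  by_contra h
  simp only [not_or, not_not] at h
  obtain ⟨a', ha⟩ := PowerSeries.X_dvd_iff.2 h.1
  obtain ⟨b', hb⟩ := PowerSeries.X_dvd_iff.2 h.2
  have h1 := congrArg (br1 Δ hΔ) hab
  rw [br1_gu, map_mul, ha, hb] at h1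
  have h2 := congrArg (PowerSeries.coeff 1) h1
  rw [show PowerSeries.X * a' * (PowerSeries.X * b') = PowerSeries.X ^ 2 * (a' * b') by ring,
    PowerSeries.coeff_X_pow_mul', PowerSeries.coeff_one_X] at h2
  simp at h2

end NodeUFDLib
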